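import Cfsg.Agent.HZ.L.Reg.Grp
import Cfsg.Agent.DL.Ex.Lev

/-!
# HZ, the regular embedding: the datum (helper22)

`DD D` is the datum of the larger group; `Jm D` is the inclusion of the cocharacter lattices.
-/

set_option autoImplicit false
set_option linter.unusedSectionVars false

namespace Cfsg.Agent.HZ.L.Reg

open Cfsg Cfsg.Agent.DL Cfsg.Agent.Nodes.Reps Matrix Cfsg.Agent.Tits.Roots Cfsg.Agent.LangThm Cfsg.Agent.Nodes.BNOf
  SemidirectProduct CoxeterSystem Cfsg.Agent.DL.PP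

variable {p : ℕ} [Fact p.Prime] {k : Type} [Field k] [CharP k p] [IsAlgClosed k] {Y : Type} [Group Y] {N : Type}
  [Fintype N] [DecidableEq N] {ρ : Y →* GL N k} {F : MulAut Y} {G : Subgroup Y} (D : Datum p ρ F G)

/-- the image of a subgroup -/
noncomputable def up (H : Subgroup Y) : Subgroup (YY D) := (H.subgroupOf G).map inl

variable {D}

theorem mem_up {H : Subgroup Y} {y : YY D} : y ∈ up D H ↔ ∃ g ∈ G, g ∈ H ∧ iY D g = y :=
  ⟨fun ⟨g, hg, e⟩ => ⟨g, g.2, hg, (iY_coe D g).trans e⟩, fun ⟨g, hg, h, e⟩ => ⟨⟨g, hg⟩, h, (iY_of hg).symm.trans e⟩⟩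

theorem iY_mem_up {H : Subgroup Y} {g : Y} (hg : g ∈ G) : iY D g ∈ up D H ↔ g ∈ H :=
  mem_up.trans ⟨fun ⟨_, h1, h2, e⟩ => iY_inj h1 hg e ▸ h2, fun h => ⟨g, hg, h, rfl⟩⟩

variable (D)

theorem up_inf_lev (H : Subgroup Y) (e : ℕ) : up D (H ⊓ DL.lev p ρ e) = up D H ⊓ DL.lev p (rh D) e := by
  ext y
  rw [Subgroup.mem_inf, mem_up, mem_up]
  constructor
  · rintro ⟨g, hg, h, rfl⟩
    exact ⟨⟨g, hg, h.1, rfl⟩, (iY_mem_lev D hg).2 h.2⟩
  · rintro ⟨⟨g, hg, h, rfl⟩, h'⟩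
    exact ⟨g, hg, ⟨h, (iY_mem_lev D hg).1 h'⟩, rfl⟩

theorem up_S {S : Set (D.I → ℤ)} (hS : ∀ a ∈ S, D.Rt a) : up D (D.S S) = RGD.Sup (fun a => up D (D.X a)) S := by
  rw [up, Datum.S, RGD.Sup, Nodes.RGDLib.iSup_subgroupOf _ fun z : S => D.X_le_G (hS z z.2), Subgroup.map_iSup]
  rfl

theorem up_T_le : up D D.T ≤ (ta D).range := fun y hy => by
  obtain ⟨g, -, h, rfl⟩ := mem_up.1 hy
  obtain ⟨c, rfl⟩ := (D.mem_T g).1 h
  exact ⟨_, ta_elim D c⟩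

/-- the roots -/
def wt' : (D.I → ℤ) →+ (D.R ⊕ D.I → ℤ) := AddMonoidHom.mk' (fun b => Sum.elim (D.wt b) (-b)) fun a b =>
  funext fun i => by
    rcases i with i | i
    · exact congrFun (map_add D.wt a b) i
    · exact neg_add _ _

theorem chr_wt' {c : D.R ⊕ D.I → kˣ} {s : D.R → kˣ} (h : al D s = c ∘ Sum.inr) (b : D.I → ℤ) :
    chr (wt' D b) c = chr (D.wt b) (c ∘ Sum.inl * s⁻¹) :=
  (chr_elim _ _ _).trans (by rw [map_mul, map_inv, chr_neg, ← h, chr_al])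

theorem coch_elim (v : D.R → ℤ) (a : kˣ) : coch (Sum.elim v (0 : D.I → ℤ)) a = Sum.elim (coch v a) 1 := funext fun i => by
  rcases i with i | i
  · rfl
  · exact zpow_zero a

theorem tor' {a : D.I → ℤ} (ha : D.Rt a) (c : D.R ⊕ D.I → kˣ) (u : k) :
    ta D c * iY D (D.x a u) * (ta D c)⁻¹ = iY D (D.x a ((chr (wt' D a) c : kˣ) * u)) := by
  obtain ⟨s, hs⟩ := al_surj D (c ∘ Sum.inr)
  rw [ta_conj D hs (D.X_le_G ha (D.x_mem ha u)), D.tor a ha, chr_wt' D hs]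

theorem refl' (i : D.I) (c : D.R ⊕ D.I → kˣ) : iY D (D.n i) * ta D c * (iY D (D.n i))⁻¹ =
    ta D (c * (coch (Sum.elim (D.cw i) 0) (chr (wt' D (sr i)) c))⁻¹) := by
  obtain ⟨s, hs⟩ := al_surj D (c ∘ Sum.inr)
  have h := fun t => D.T_le_G (D.τ_mem t)
  rw [conj_ta D hs (D.n_mem_G i), D.refl, map_mul, map_inv, map_mul (ta D), map_inv, coch_elim, ta_elim, chr_wt' D hs,
    iY_mul (h _) (inv_mem (h _)), iY_inv (h _), ta_eq D hs, mul_assoc, mul_assoc, ← (zz_comm D s _).eq]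

theorem mem_X' {a : D.I → ℤ} (ha : D.Rt a) (y : YY D) : y ∈ up D (D.X a) ↔ ∃ u, iY D (D.x a u) = y :=
  mem_up.trans ⟨fun ⟨g, _, h, e⟩ => ((D.mem_X a ha g).1 h).imp fun _ e' => (congrArg (iY D) e').trans e,
    fun ⟨u, e⟩ => ⟨_, D.X_le_G ha (D.x_mem ha u), D.x_mem ha u, e⟩⟩

/-- **the datum of the larger group** -/
@[reducible] noncomputable def DD : Datum p (rh D) (FF D) ⊤ where
  amb := amb D
  I := D.I
  W := D.W
  M := D.M
  cs := D.cs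
  A := D.A
  h := D.h
  R := D.R ⊕ D.I
  τ := ta D
  τ_inj := ta_inj D
  T := (ta D).range
  mem_T _ := Iff.rfl
  X a := up D (D.X a)
  x a u := iY D (D.x a u)
  mem_X a ha := mem_X' D ha
  x_inj a ha u v h := D.x_inj a ha (iY_inj (D.X_le_G ha (D.x_mem ha u)) (D.X_le_G ha (D.x_mem ha v)) h)
  x_add a ha u v := by rw [D.x_add a ha, iY_mul (D.X_le_G ha (D.x_mem ha u)) (D.X_le_G ha (D.x_mem ha v))]
  n i := iY D (D.n i)
  wt := wt' D
  cw i := Sum.elim (D.cw i) 0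
  pair i a := by
    rw [Fintype.sum_sum_type, ← D.pair]
    simp [wt']
  tor a ha := tor' D ha
  refl := refl' D
  rgd := ⟨D.e0, D.e0_pos, fun m hm => by
    have he := Nat.mul_pos D.e0_pos hm
    have R := Nodes.RGDLib.rgd_map_of_injective (Nodes.RGDLib.rgd_restrict (D.rgd_lev he (dvd_mul_right _ _)) G
      (fun a ha => inf_le_left.trans (D.X_le_G ha)) D.n_mem_G) (inl : _ →* YY D) inl_injective
    simp only [← iY_of (D := D)] at R
    refine Ex.rgd_lev (rh_inj D) he (ta_inj D) (fun _ h => h) R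
      ((up_inf_lev D _ _).le.trans (inf_le_inf_right _ (up_T_le D))) (fun a _ => up_inf_lev D _ _)
      (fun i => (iY_mem_lev D (D.n_mem_G i)).2 (D.n_mem_lev he (dvd_mul_right _ _) i)) ?_ ?_
    · rintro i _ ⟨c, rfl⟩
      exact ⟨_, (refl' D i c).symm⟩
    · rintro a ha _ ⟨c, rfl⟩ u hu
      obtain ⟨u, rfl⟩ := (mem_X' D ha u).1 hu
      exact (mem_X' D ha _).2 ⟨_, (tor' D ha c u).symm⟩⟩
  G_eq := eq_top_iff.2 fun y _ => by
    obtain ⟨g, hg, c, rfl⟩ := exists_iY_ta D y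
    refine mul_mem ?_ (Subgroup.mem_sup_left ⟨c, rfl⟩)
    rw [Nodes.Bruhat.GG, ← up_S D (S := {x | D.Rt x}) fun _ h => h]
    refine sup_le_sup_right (up_T_le D) _ ?_
    rw [up, up, ← Subgroup.map_sup, ← Subgroup.subgroupOf_sup D.T_le_G (D.S_le_G (S := {x | D.Rt x}) fun _ h => h)]
    exact (iY_mem_up hg).2 (D.G_eq.ge hg)
  polyx a ha i j := by
    simp only [rh_iY D (D.X_le_G ha (D.x_mem ha _)), coe_bl]
    rcases i with i | i <;> rcases j with j | j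
    · exact D.polyx a ha i j
    · exact ⟨0, fun u => Polynomial.eval_zero.symm⟩
    · exact ⟨0, fun u => Polynomial.eval_zero.symm⟩
    · exact ⟨Polynomial.C _, fun u => Polynomial.eval_C.symm⟩
  diag := ⟨bl (g0 D, 1), _, fun c => by rw [rh_ta, ← mul_assoc, ← mul_assoc, inv_mul_cancel, one_mul, inv_mul_cancel_right,
    coe_dg]⟩
  g := D.g
  ex := D.ex
  g_root := D.g_root
  F_x a ha := (D.F_x a ha).imp fun c hc => ⟨hc.1, fun u => by rw [FF_iY D (D.X_le_G ha (D.x_mem ha u)), hc.2]⟩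
  Mx := fromBlocks D.Mx 0 0 (Qm D)
  F_τ := FF_ta D

theorem DD_U : (DD D).U = up D D.U := (up_S D fun _ h => h.1).symm

variable {D}

theorem rp_iY {w : D.W} {m : Y} (hm : D.Rp w m) : (DD D).Rp w (iY D m) := by
  have key : ∀ ω : List D.I, ∃ m, D.Rp (D.cs.wordProd ω) m ∧ (DD D).Rp (D.cs.wordProd ω) (iY D m) := fun ω => by
    induction ω with
    | nil => exact ⟨1, by rw [wordProd_nil, iY_one]; exact ⟨rp_one, rp_one⟩⟩
    | cons i ω ih =>
      obtain ⟨m, h1, h2⟩ := ih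
      refine ⟨D.n i * m, ?_⟩
      rw [wordProd_cons, iY_mul (D.n_mem_G i) h1.mem_G]
      exact ⟨(rp_simple _ _ i).mul h1, (rp_simple _ (DD D).nsys i).mul h2⟩
  obtain ⟨ω, rfl⟩ := D.cs.wordProd_surjective w
  obtain ⟨m', h1, h2⟩ := key ω
  have h3 := h1.unique hm
  rw [← mul_inv_cancel_left m' m, iY_mul h1.mem_G (D.T_le_G h3)]
  exact h2.mul_mem_right (up_T_le D ((iY_mem_up (D.T_le_G h3)).2 h3))

theorem rp_lang {w : D.W} {y : Y} (hy : y ∈ G) (hw : D.Rp w (y⁻¹ * F y)) :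
    (DD D).Rp w ((iY D y)⁻¹ * FF D (iY D y)) := by
  rw [FF_iY D hy, ← iY_inv hy, ← iY_mul (inv_mem hy) (D.F_mem_G hy)]
  exact rp_iY hw

variable (D)

/-- the inclusion of the cocharacter lattices -/
def Jm : Matrix (D.R ⊕ D.I) D.R ℤ := fromRows 1 0

theorem Jm_mulVec (v : D.R → ℤ) : Jm D *ᵥ v = Sum.elim v 0 := by
  rw [Jm, fromRows_mulVec, one_mulVec, zero_mulVec]

theorem vecMul_Jm (a : D.R → ℤ) (b : D.I → ℤ) : Sum.elim a b ᵥ* Jm D = a := by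
  rw [Jm, sumElim_vecMul_fromRows, vecMul_one, vecMul_zero, add_zero]

theorem ta_coch (v : D.R → ℤ) (a : kˣ) : ta D (coch (Jm D *ᵥ v) a) = iY D (D.τ (coch v a)) := by
  rw [Jm_mulVec, coch_elim, ta_elim]

theorem Wm_Jm (w : D.W) : (DD D).Wm w * Jm D = Jm D * D.Wm w := by
  obtain ⟨m, hm, -⟩ := D.exists_rp w
  refine Matrix.ext_of_mulVec_single fun j => coch_inj (k := k) fun a => ta_inj D ?_
  rw [← mulVec_mulVec, ← mulVec_mulVec, ← mon_coch, ta_coch, ← mon_coch, ← D.conj_τ hm,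
    iY_conj hm.mem_G (D.T_le_G (D.τ_mem _)), ← ta_coch]
  exact ((DD D).conj_τ (rp_iY hm) _).symm

theorem blocks_Jm (A : Matrix D.R D.R ℤ) (B : Matrix D.I D.I ℤ) : fromBlocks A 0 0 B * Jm D = Jm D * A := by
  rw [Jm, fromBlocks_mul_fromRows, fromRows_mul]
  simp

theorem cor_DD {a : D.I → ℤ} (ha : D.Rt a) : (DD D).cor a = Jm D *ᵥ D.cor a := by
  obtain ⟨w, i, rfl⟩ := ha
  rw [D.cor_act_sr w i, mulVec_mulVec, ← Wm_Jm, ← mulVec_mulVec, Jm_mulVec]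
  exact (DD D).cor_act_sr w i

theorem nu_conj (y t : YY D) : nu D (y * t * y⁻¹) = nu D t := by
  rw [map_mul, map_mul, map_inv, mul_inv_cancel_comm]

theorem inr_Wm (w : D.W) (c : D.R ⊕ D.I → kˣ) : mon ((DD D).Wm w) c ∘ Sum.inr = c ∘ Sum.inr := by
  obtain ⟨m, hm, -⟩ := (DD D).exists_rp w
  exact (congrArg (nu D) ((DD D).conj_τ hm c)).symm.trans (nu_conj D _ _)

theorem mon_Wm_zz (w : D.W) (t s : D.R → kˣ) : mon ((DD D).Wm w * (DD D).Mx) (Sum.elim t 1 * Sum.elim s (al D s)) =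
    Sum.elim (mon (D.Wm w * D.Mx) t) 1 * Sum.elim (mon D.Mx s) (al D (mon D.Mx s)) := ta_inj D (by
  obtain ⟨m, hm, -⟩ := D.exists_rp w
  have h := (DD D).conj_τ (rp_iY hm) (mon (DD D).Mx (Sum.elim t 1 * Sum.elim s (al D s)))
  have h1 : mon (DD D).Mx (Sum.elim t 1) = Sum.elim (mon D.Mx t) 1 := (mon_blocks _ _ _).trans (by
    rw [show Sum.elim t (1 : D.I → kˣ) ∘ Sum.inr = 1 from rfl, map_one]; rfl)
  have h2 : mon (DD D).Mx (Sum.elim s (al D s)) = Sum.elim (mon D.Mx s) (al D (mon D.Mx s)) :=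
    (mon_blocks _ _ _).trans (by rw [al_mon]; rfl)
  rw [mon_mul]
  refine h.symm.trans ?_
  rw [map_mul, h1, h2, map_mul, map_mul, ta_elim, ta_elim, mon_mul, ← D.conj_τ hm,
    iY_conj hm.mem_G (D.T_le_G (D.τ_mem _)), ← zz, mul_assoc _ (iY D m)⁻¹, ← (zz_comm D _ (iY D m)⁻¹).eq]
  group)

theorem lvl_DD {d e : ℕ} (L : Lvl D d e) : Lvl (DD D) d e := ⟨L.d_pos, L.e_pos, fun w => mon_inj (k := k) fun c => by
  obtain ⟨s, hs⟩ := al_surj D (c ∘ Sum.inr)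
  have h0 : c = Sum.elim (c ∘ Sum.inl * s⁻¹) 1 * Sum.elim s (al D s) := ta_inj D (by rw [map_mul, ta_elim, ta_eq D hs, zz])
  have h1 : ∀ (n : ℕ) (t s : D.R → kˣ), mon (((DD D).Wm w * (DD D).Mx) ^ n)
      (Sum.elim t (1 : D.I → kˣ) * Sum.elim s (al D s)) =
      Sum.elim (mon ((D.Wm w * D.Mx) ^ n) t) 1 * Sum.elim (mon (D.Mx ^ n) s) (al D (mon (D.Mx ^ n) s)) := fun n => by
    induction n with
    | zero => exact fun t s => by rw [pow_zero, pow_zero, pow_zero, mon_one, mon_one, mon_one]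
    | succ n ih => exact fun t s => by rw [pow_succ, pow_succ, pow_succ, mon_mul, mon_Wm_zz, ih, ← mon_mul, ← mon_mul]
  have h2 := L.pow 1
  rw [D.Wm_one, one_mul] at h2
  rw [h0, h1, L.pow, h2, mon_zsmul, mon_zsmul, mon_zsmul, mon_one, mon_one, mon_one, map_zpow]
  funext i
  rcases i with i | i
  · exact (mul_zpow _ _ _).symm
  · exact (one_mul _).trans (congrArg (· ^ (p : ℤ) ^ e) (one_mul (al D s i)).symm)⟩

theorem cz_DD : CZ (DD D) := ⟨0, fun i => Sum.elim 0 (-Pi.single i 1), fun b i => by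
  show Sum.elim (D.wt b) (-b) ⬝ᵥ _ = _
  rw [sumElim_dotProduct_sumElim]
  simp⟩

end Cfsg.Agent.HZ.L.Reg
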