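import Cfsg.Agent.KZ.Lie.ApiA

/-!
# HZ, the regular embedding: matrices and weights (helper22)

* `dg`, `bl` : diagonal and block diagonal matrices;
* `al D` : the values of the simple roots, a map of the torus onto `D.I → kˣ`; `Qm D` : the matrix of `F` on the image;
* `exists_del` : a diagonal action of `D.I → kˣ` on the representation space which induces the diagonal automorphisms.
-/

set_option autoImplicit false
set_option linter.unusedSectionVars false

namespace Cfsg.Agent.HZ.L.Reg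

open Cfsg Cfsg.Agent.DL Cfsg.Agent.Nodes.Reps Matrix Cfsg.Agent.Tits.Roots Cfsg.Agent.LangThm Cfsg.Agent.Nodes.BNOf

section Mat

variable {k : Type} [Field k] {N N' : Type} [Fintype N] [DecidableEq N] [Fintype N'] [DecidableEq N']

/-- diagonal matrices -/
def dg : (N → kˣ) →* GL N k := MonoidHom.mk' (fun d => ⟨diagonal fun a => (d a : k),
  diagonal fun a => (((d a)⁻¹ : kˣ) : k), by simp [diagonal_mul_diagonal], by simp [diagonal_mul_diagonal]⟩)
  fun a b => Units.ext (by simp [diagonal_mul_diagonal])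

theorem coe_dg (d : N → kˣ) : (dg d : Matrix N N k) = diagonal fun a => (d a : k) := rfl

theorem dg_inj {d : N → kˣ} (h : dg d = 1) : d = 1 := funext fun a => Units.ext (by
  have := congrArg (fun g : GL N k => (g : Matrix N N k) a a) h
  simpa [coe_dg] using this)

/-- block diagonal matrices -/
def bl : GL N k × GL N' k →* GL (N ⊕ N') k := MonoidHom.mk' (fun x => ⟨fromBlocks x.1 0 0 x.2,
  fromBlocks ((x.1⁻¹ : GL N k) : Matrix N N k) 0 0 ((x.2⁻¹ : GL N' k) : Matrix N' N' k),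
  by simp [fromBlocks_multiply], by simp [fromBlocks_multiply]⟩) fun a b => Units.ext (by simp [fromBlocks_multiply])

theorem coe_bl (a : GL N k) (b : GL N' k) :
    (bl (a, b) : Matrix (N ⊕ N') (N ⊕ N') k) = fromBlocks (a : Matrix N N k) 0 0 (b : Matrix N' N' k) := rfl

theorem bl_inj : Function.Injective (bl : GL N k × GL N' k → _) := fun a b h => by
  have h1 := fromBlocks_inj.1 (congrArg Units.val h)
  exact Prod.ext (Units.ext h1.1) (Units.ext h1.2.2.2)

theorem bl_dg (a : N → kˣ) (b : N' → kˣ) : bl (dg a, dg b) = dg (Sum.elim a b) := Units.ext (by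
  rw [coe_bl, coe_dg, coe_dg, coe_dg, fromBlocks_diagonal]
  congr 1
  funext i
  cases i <;> rfl)

variable {p : ℕ} [Fact p.Prime] [CharP k p]

theorem frob_dg (e : ℕ) (d : N → kˣ) : frob p e (dg d) = dg (d ^ p ^ e) := Units.ext (by
  ext i j
  rw [frob_apply, coe_dg, coe_dg, diagonal_apply, diagonal_apply]
  split_ifs
  · rw [Pi.pow_apply, Units.val_pow_eq_pow_val]
  · exact zero_pow (pow_pos (Fact.out : p.Prime).pos _).ne')

theorem frob_bl (e : ℕ) (a : GL N k) (b : GL N' k) : frob p e (bl (a, b)) = bl (frob p e a, frob p e b) := Units.ext (by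
  have h0 : (0 : k) ^ p ^ e = 0 := zero_pow (pow_pos (Fact.out : p.Prime).pos _).ne'
  ext i j
  rw [frob_apply, coe_bl, coe_bl]
  rcases i with i | i <;> rcases j with j | j
  · exact (frob_apply e a i j).symm
  · exact h0
  · exact h0
  · exact (frob_apply e b i j).symm)

theorem chr_rows {R R' : Type} [Fintype R] [Fintype R'] (m : R → ℤ) (P : Matrix R R' ℤ) (c : R' → kˣ) :
    chr m (fun i => chr (P i) c) = chr (m ᵥ* P) c := by
  rw [chr_apply, Matrix.vecMul_eq_sum, chr_sum]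
  exact Finset.prod_congr rfl fun i _ => (chr_zsmul _ _ _).symm

theorem chr_elim {R R' : Type} [Fintype R] [Fintype R'] (a : R → ℤ) (b : R' → ℤ) (c : R ⊕ R' → kˣ) :
    chr (Sum.elim a b) c = chr a (c ∘ Sum.inl) * chr b (c ∘ Sum.inr) := by
  rw [chr_apply, Fintype.prod_sum_type]
  rfl

end Mat

variable {p : ℕ} [Fact p.Prime] {k : Type} [Field k] [CharP k p] [IsAlgClosed k] {Y : Type} [Group Y] {N : Type}
  [Fintype N] [DecidableEq N] {ρ : Y →* GL N k} {F : MulAut Y} {G : Subgroup Y} (D : Datum p ρ F G)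

/-- the matrix of the simple roots -/
def Am : Matrix D.I D.R ℤ := Matrix.of fun i => D.wt (sr i)

theorem vecMul_hom {I R : Type} [Fintype I] [DecidableEq I] (f : (I → ℤ) →+ (R → ℤ)) (b : I → ℤ) :
    b ᵥ* (Matrix.of fun i => f (sr i)) = f b := by
  conv_rhs => rw [← Finset.univ_sum_single b, map_sum]
  rw [Matrix.vecMul_eq_sum]
  refine Finset.sum_congr rfl fun i _ => ?_
  rw [show Pi.single i (b i) = b i • sr i by rw [sr, ← Pi.single_smul, smul_eq_mul, mul_one], map_zsmul]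
  rfl

theorem vecMul_Am (b : D.I → ℤ) : b ᵥ* Am D = D.wt b := vecMul_hom D.wt b

theorem Am_cancel {P Q : Matrix D.I D.I ℤ} (h : P * Am D = Q * Am D) : P = Q :=
  Matrix.ext fun i => congrFun (D.wt_injective (by
    rw [← vecMul_Am, ← vecMul_Am]
    exact congrFun h i))

/-- the values of the simple roots -/
def al : (D.R → kˣ) →* (D.I → kˣ) := MonoidHom.pi fun i => chr (D.wt (sr i))

theorem chr_al (b : D.I → ℤ) (s : D.R → kˣ) : chr b (al D s) = chr (D.wt b) s :=
  (chr_rows b (Am D) s).trans (by rw [vecMul_Am])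

theorem al_surj : Function.Surjective (al D) := fun c => by
  have h : (Am D * (Am D)ᵀ).det ≠ 0 := fun h0 => by
    obtain ⟨v, hv, h1⟩ := Matrix.exists_vecMul_eq_zero_iff.2 h0
    refine hv (D.wt_injective ?_)
    rw [map_zero, ← vecMul_Am, ← dotProduct_self_eq_zero]
    have h2 := congrArg (· ⬝ᵥ v) h1
    simp only [zero_dotProduct] at h2
    rwa [← vecMul_vecMul, ← dotProduct_mulVec, mulVec_transpose] at h2
  obtain ⟨b, rfl⟩ := mon_surj h c
  exact ⟨fun j => chr ((Am D)ᵀ j) b, funext fun i => chr_rows _ _ _⟩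

/-- the matrix of `F` on the root lattice -/
noncomputable def Qm : Matrix D.I D.I ℤ := Matrix.of fun i => D.ψ (sr i)

theorem vecMul_Qm (b : D.I → ℤ) : b ᵥ* Qm D = D.ψ b := vecMul_hom D.ψ b

theorem Qm_Am : Qm D * Am D = Am D * D.Mx :=
  Matrix.ext fun i => congrFun ((vecMul_Am D _).trans (D.wt_ψ (sr i)))

theorem Qm_pow_Am (n : ℕ) : Qm D ^ n * Am D = Am D * D.Mx ^ n := by
  induction n with
  | zero => rw [pow_zero, pow_zero, Matrix.one_mul, Matrix.mul_one]
  | succ n ih => rw [pow_succ', Matrix.mul_assoc, ih, ← Matrix.mul_assoc, Qm_Am, Matrix.mul_assoc, ← pow_succ']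

theorem Qm_pow {d : ℕ} {z : ℤ} (h : D.Mx ^ d = z • (1 : Matrix D.R D.R ℤ)) : Qm D ^ d = z • (1 : Matrix D.I D.I ℤ) :=
  Am_cancel D (by rw [Qm_pow_Am, h, Matrix.smul_mul, Matrix.mul_smul, Matrix.one_mul, Matrix.mul_one])

theorem al_mon (s : D.R → kˣ) : al D (mon D.Mx s) = mon (Qm D) (al D s) := funext fun i => by
  rw [mon_apply, chr_al]
  exact (chr_mon _ _ _).trans (by rw [← D.wt_ψ]; rfl)

theorem Qm_iter {d e : ℕ} (h : D.Mx ^ d = ((p : ℤ) ^ e) • (1 : Matrix D.R D.R ℤ)) (c : D.I → kˣ) :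
    (mon (Qm D))^[d] c = c ^ p ^ e := by
  rw [← mon_pow, Qm_pow D h, mon_zsmul, mon_one, ← Nat.cast_pow, zpow_natCast]

theorem Qm_bij : Function.Bijective (mon (Qm D) : (D.I → kˣ) → _) := by
  obtain ⟨d, e, H⟩ := D.exists_split'
  obtain ⟨d, rfl⟩ := Nat.exists_eq_succ_of_ne_zero H.d_pos.ne'
  have h := Qm_iter D (D.Mx_pow H)
  refine ⟨fun a b hab => funext fun i => Units.ext ((iterateFrobenius k p e).injective ?_), fun c => ?_⟩
  · have h1 := h a
    rw [Function.iterate_succ_apply, hab, ← Function.iterate_succ_apply (mon (Qm D)), h] at h1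
    rw [iterateFrobenius_def, iterateFrobenius_def, ← Units.val_pow_eq_pow_val, ← Units.val_pow_eq_pow_val]
    exact congrArg Units.val (congrFun h1 i).symm
  · obtain ⟨b, rfl⟩ := exists_pow_eq (n := (p ^ e : ℕ)) (by exact_mod_cast (pow_pos (Fact.out : p.Prime).pos e).ne') c
    exact ⟨_, by rw [zpow_natCast, ← h, Function.iterate_succ_apply']⟩

theorem central_of_al {s : D.R → kˣ} (h : al D s = 1) : ∀ y ∈ G, y * D.τ s = D.τ s * y :=
  KZ.Lie.τ_central fun b _ => by rw [← chr_al, h, map_one]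

/-- the weights of the entries of a root element -/
theorem wt_of_entry {g₀ : GL N k} {μ : N → D.R → ℤ} (h : ∀ c, ρ (D.τ c) = g₀ * dg (fun i => chr (μ i) c) * g₀⁻¹)
    {a : D.I → ℤ} (ha : D.Rt a) {u : k} {i j : N} (h0 : (g₀⁻¹ * ρ (D.x a u) * g₀ : GL N k) i j ≠ 0) :
    μ i - μ j ∈ D.wt.range := by
  choose f hf using D.polyx a ha
  obtain ⟨P, hP⟩ : ∃ P : Polynomial k, ∀ u, (g₀⁻¹ * ρ (D.x a u) * g₀ : GL N k) i j = P.eval u :=
    ⟨∑ l, (∑ l', Polynomial.C ((g₀⁻¹ : GL N k) i l') * f l' l) * Polynomial.C (g₀ l j), fun u => by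
      simp only [Units.val_mul, Matrix.mul_apply, hf, Polynomial.eval_finsetSum, Polynomial.eval_mul, Polynomial.eval_C]⟩
  obtain ⟨n, hn⟩ : ∃ n, P.coeff n ≠ 0 := by
    by_contra h1
    push Not at h1
    exact h0 (by rw [hP, Polynomial.ext (q := 0) h1, Polynomial.eval_zero])
  refine ⟨n • a, chr_inj (k := k) fun c => Units.ext ?_⟩
  have h1 : P.comp (Polynomial.C ((chr (D.wt a) c : kˣ) : k) * Polynomial.X) =
      Polynomial.C ((chr (μ i - μ j) c : kˣ) : k) * P := Polynomial.funext fun v => by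
    rw [Polynomial.eval_comp, Polynomial.eval_mul, Polynomial.eval_mul, Polynomial.eval_C, Polynomial.eval_C,
      Polynomial.eval_X, ← hP, ← hP, ← D.tor a ha, map_mul, map_mul, ← map_inv D.τ, h, h,
      show ∀ x y z : GL N k, g₀⁻¹ * (g₀ * x * g₀⁻¹ * y * (g₀ * z * g₀⁻¹)) * g₀ = x * (g₀⁻¹ * y * g₀) * z from
        fun x y z => by group, Units.val_mul, Units.val_mul, coe_dg, coe_dg, mul_diagonal, diagonal_mul, chr_sub, map_inv,
      Units.val_mul (chr (μ i) c), mul_right_comm]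
  have h2 := congrArg (·.coeff n) h1
  simp only [Polynomial.comp_C_mul_X_coeff, Polynomial.coeff_C_mul] at h2
  rw [map_nsmul, chr_nsmul, Units.val_pow_eq_pow_val]
  exact mul_left_cancel₀ hn (h2.trans (mul_comm _ _))

theorem exists_del : ∃ (g₀ : GL N k) (μ : N → D.R → ℤ) (m : N → D.I → ℤ),
    (∀ c, ρ (D.τ c) = g₀ * dg (fun i => chr (μ i) c) * g₀⁻¹) ∧
    ∀ s, ∀ g ∈ G, Commute (g₀ * dg (fun i => chr (m i) (al D s)) * g₀⁻¹ * ρ (D.τ s)) (ρ g) := by
  obtain ⟨g₀, μ, h⟩ := D.diag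
  have h1 : ∀ c, ρ (D.τ c) = g₀ * dg (fun i => chr (μ i) c) * g₀⁻¹ := fun c => by
    rw [← show g₀⁻¹ * ρ (D.τ c) * g₀ = dg (fun i => chr (μ i) c) from Units.ext (h c)]
    group
  let β : N → D.R → ℤ := fun i => (QuotientAddGroup.mk (s := D.wt.range) (μ i)).out
  have h2 : ∀ i, ∃ m, D.wt m = -μ i + β i := fun i =>
    (QuotientAddGroup.eq (s := D.wt.range)).1 (QuotientAddGroup.out_eq' (QuotientAddGroup.mk (μ i))).symm
  choose m hm using h2
  refine ⟨g₀, μ, m, h1, fun s g hg => ?_⟩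
  have h3 : g₀ * dg (fun i => chr (m i) (al D s)) * g₀⁻¹ * ρ (D.τ s) = g₀ * dg (fun i => chr (β i) s) * g₀⁻¹ := by
    rw [h1, show ∀ x y : GL N k, g₀ * x * g₀⁻¹ * (g₀ * y * g₀⁻¹) = g₀ * (x * y) * g₀⁻¹ from fun x y => by group, ← map_mul]
    congr 3
    funext i
    rw [Pi.mul_apply, chr_al, hm, ← chr_add, neg_add_cancel_comm]
  have h4 : G ≤ (Subgroup.centralizer {g₀ * dg (fun i => chr (β i) s) * g₀⁻¹}).comap ρ := by
    refine D.G_eq.ge.trans (sup_le (fun t ht z hz => ?_) (RGD.Sup_le fun b hb x hx z hz => ?_))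
    · obtain ⟨c, rfl⟩ := (D.mem_T t).1 ht
      rw [hz, h1, ← MulAut.conj_apply, ← MulAut.conj_apply, ← map_mul, ← map_mul, ← map_mul, ← map_mul, mul_comm]
    · obtain ⟨u, rfl⟩ := (D.mem_X b hb x).1 hx
      have h5 : dg (fun i => chr (β i) s) * (g₀⁻¹ * ρ (D.x b u) * g₀) =
          g₀⁻¹ * ρ (D.x b u) * g₀ * dg (fun i => chr (β i) s) := Units.ext (by
        ext i j
        rw [Units.val_mul, Units.val_mul _ (dg _), coe_dg, mul_diagonal, diagonal_mul, mul_comm]
        by_cases h0 : (g₀⁻¹ * ρ (D.x b u) * g₀ : GL N k) i j = 0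
        · rw [h0, zero_mul, zero_mul]
        · have h6 : β j = β i := congrArg Quotient.out (QuotientAddGroup.eq.2 (by
            rw [neg_add_eq_sub]
            exact wt_of_entry D h1 hb h0))
          rw [h6])
      rw [hz]
      calc _ = g₀ * (dg (fun i => chr (β i) s) * (g₀⁻¹ * ρ (D.x b u) * g₀)) * g₀⁻¹ := by group
        _ = _ := by rw [h5]; group
  rw [h3]
  exact h4 hg _ rfl

end Cfsg.Agent.HZ.L.Reg
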