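import Cfsg.Agent.DL.CF.Ind

/-!
# HZ, the regular embedding: the restriction of the Deligne-Lusztig induction (helper22)

* `ind_map` : transport along an embedding; * `ind_res` : restriction to a subgroup which is supplemented by the torus.
-/

set_option autoImplicit false

namespace Cfsg.Agent.HZ.L.Reg

open Cfsg.Agent.DL.CF Cfsg.Agent.DL.Lef

theorem glef_smul {z : ℂ} (hz : z ≠ 0) (S : ℕ → ℂ) : glef (fun m => z * S m) = z * glef S := by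
  by_cases h : ∃ d, 0 < d ∧ ExpC fun m => S (d * m)
  · obtain ⟨d, hd, h⟩ := h
    rw [glef_eq hd h, glef_eq hd (h.smul z), lef_smul h]
  · rw [glef, glef, dif_neg h, dif_neg fun ⟨d, hd, h1⟩ => h ⟨d, hd, (h1.smul z⁻¹).congr fun m _ =>
      inv_mul_cancel_left₀ hz _⟩, mul_zero]

variable {Γ Γ' : Type} [Group Γ] [Group Γ']

section Map

variable {F : MulAut Γ} {F' : MulAut Γ'} {H K : Subgroup Γ} {H' K' : Subgroup Γ'} {V : Set Γ} {V' : Set Γ'} {i : Γ → Γ'}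
  (mul : ∀ a ∈ H, ∀ b ∈ H, i (a * b) = i a * i b) (inv : ∀ a ∈ H, i a⁻¹ = (i a)⁻¹)
  (inj : ∀ a ∈ H, ∀ b ∈ H, i a = i b → a = b) (hF : ∀ a ∈ H, F a ∈ H) (comm : ∀ m : ℕ, ∀ a ∈ H, (F' ^ m) (i a) = i ((F ^ m) a))
  (hH : ∀ y, y ∈ H' ↔ ∃ a ∈ H, i a = y) (hV : ∀ a ∈ H, i a ∈ V' ↔ a ∈ V)

include mul inv inj hF comm hH hV

theorem lam_map {g t : Γ} (hg : g ∈ H) (ht : t ∈ H) : lam F' H' V' (i g) (i t) = lam F H V g t := by
  refine congrArg glef (funext fun m => congrArg Nat.cast (Nat.card_congr ?_).symm)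
  have h1 : ∀ x ∈ H, i x ∈ pts F'.toMonoidHom (F' ^ m).toMonoidHom H' V' (i g) (i t) ↔
      x ∈ pts F.toMonoidHom (F ^ m).toMonoidHom H V g t := fun x hx => by
    have h2 := comm 1 x hx
    rw [pow_one, pow_one] at h2
    have h3 := pow_apply_mem (S := (H : Set Γ)) hF m hx
    have h4 := mul_mem (mul_mem hg hx) (inv_mem ht)
    refine and_congr (iff_of_true ((hH _).2 ⟨x, hx, rfl⟩) hx) (and_congr ?_ ?_)
    · show (i x)⁻¹ * F' (i x) ∈ V' ↔ x⁻¹ * F x ∈ V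
      rw [h2, ← inv x hx, ← mul _ (inv_mem hx) _ (hF x hx), hV _ (mul_mem (inv_mem hx) (hF x hx))]
    · show (F' ^ m) (i x) = _ ↔ (F ^ m) x = _
      rw [comm m x hx, ← inv t ht, ← mul g hg x hx, ← mul _ (mul_mem hg hx) _ (inv_mem ht)]
      exact ⟨inj _ h3 _ h4, congrArg i⟩
  refine Equiv.ofBijective (fun x => ⟨i x, (h1 x x.2.1).2 x.2⟩) ⟨fun a b e =>
    Subtype.ext (inj _ a.2.1 _ b.2.1 (congrArg Subtype.val e)), fun y => ?_⟩
  obtain ⟨x, hx, e⟩ := (hH _).1 y.2.1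
  exact ⟨⟨x, (h1 x hx).1 (e ▸ y.2)⟩, Subtype.ext e⟩

theorem ind_map (hKH : K ≤ H) (hK : ∀ y, y ∈ K' ↔ ∃ a ∈ K, i a = y) (f : Γ' → ℂ) {g : Γ} (hg : g ∈ H) :
    ind F' H' K' V' f (i g) = ind F H K V (fun t => f (i t)) g := by
  let e : K ≃ K' := Equiv.ofBijective (fun x => ⟨i x, (hK _).2 ⟨x, x.2, rfl⟩⟩) ⟨fun a b e =>
    Subtype.ext (inj _ (hKH a.2) _ (hKH b.2) (congrArg Subtype.val e)), fun y =>
      let ⟨x, hx, e⟩ := (hK _).1 y.2; ⟨⟨x, hx⟩, Subtype.ext e⟩⟩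
  rw [ind_apply, ind_apply, ← Nat.card_congr e, ← finsum_comp_equiv e]
  exact congrArg _ (finsum_congr fun t => congrArg (· * _) (lam_map mul inv inj hF comm hH hV hg (hKH t.2)))

end Map

section Res

variable {F : MulAut Γ} {H K : Subgroup Γ} {V : Set Γ} (hF : ∀ a ∈ H, F a ∈ H) (fix : ∀ a ∈ K, F a = a)
  (ab : ∀ a ∈ K, ∀ b ∈ K, a * b = b * a) (norm : ∀ a ∈ K, ∀ v ∈ V, a⁻¹ * v * a ∈ V)
  (cov : ∀ x, x⁻¹ * F x ∈ V → ∃ a ∈ K, x * a⁻¹ ∈ H)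

include fix ab norm in
theorem mul_pts {m : ℕ} {g t x a : Γ} {H' H'' : Subgroup Γ} (ht : t ∈ K) (ha : a ∈ K)
    (hx : x ∈ pts F.toMonoidHom (F ^ m).toMonoidHom H' V g t) (h : x * a ∈ H'') :
    x * a ∈ pts F.toMonoidHom (F ^ m).toMonoidHom H'' V g t := by
  refine ⟨h, ?_, ?_⟩
  · rw [map_mul, show F.toMonoidHom a = a from fix a ha, show ∀ y, (x * a)⁻¹ * (y * a) = a⁻¹ * (x⁻¹ * y) * a from
      fun y => by group]
    exact norm a ha _ hx.2.1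
  · rw [map_mul, show (F ^ m).toMonoidHom a = a from pow_apply_of_fixed (fix a ha) m, hx.2.2, mul_assoc,
      ab _ (inv_mem ht) a ha]
    group

include fix ab norm cov in
theorem cnt_res (m : ℕ) (g : Γ) {t : Γ} (ht : t ∈ K) :
    cnt F.toMonoidHom (F ^ m).toMonoidHom ⊤ V g t * Nat.card ↥(K ⊓ H) =
      cnt F.toMonoidHom (F ^ m).toMonoidHom H V g t * Nat.card K := by
  choose κ h1 h2 using fun x : pts F.toMonoidHom (F ^ m).toMonoidHom ⊤ V g t => cov x x.2.2.1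
  rw [cnt, cnt, ← Nat.card_prod, ← Nat.card_prod]
  refine Nat.card_congr (Equiv.ofBijective (fun z => (⟨z.1 * ((z.2 : Γ) * κ z.1)⁻¹,
    mul_pts fix ab norm ht (inv_mem (mul_mem z.2.2.1 (h1 _))) z.1.2 (by
      rw [mul_inv_rev, ← mul_assoc]
      exact mul_mem (h2 _) (inv_mem z.2.2.2))⟩, ⟨z.2 * κ z.1, mul_mem z.2.2.1 (h1 _)⟩)) ⟨?_, ?_⟩)
  · rintro ⟨x, a⟩ ⟨y, b⟩ e
    have h3 : (x : Γ) * ((a : Γ) * κ x)⁻¹ = y * ((b : Γ) * κ y)⁻¹ := congrArg (fun z => (z.1 : Γ)) e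
    have h4 : (a : Γ) * κ x = b * κ y := congrArg (fun z => (z.2 : Γ)) e
    obtain rfl : x = y := Subtype.ext (by rwa [h4, mul_left_inj] at h3)
    exact Prod.ext rfl (Subtype.ext (mul_right_cancel h4))
  · rintro ⟨x, a⟩
    let y : pts F.toMonoidHom (F ^ m).toMonoidHom ⊤ V g t := ⟨x * a, mul_pts fix ab norm ht a.2 x.2 trivial⟩
    refine ⟨(y, ⟨a * (κ y)⁻¹, K.mul_mem a.2 (K.inv_mem (h1 y)), ?_⟩), Prod.ext (Subtype.ext ?_) (Subtype.ext ?_)⟩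
    · have h3 := H.mul_mem (H.inv_mem x.2.1) (h2 y)
      rwa [show (y : Γ) = x * a from rfl, mul_assoc, inv_mul_cancel_left] at h3
    · show (x : Γ) * a * ((a : Γ) * (κ y)⁻¹ * κ y)⁻¹ = x
      group
    · exact inv_mul_cancel_right _ _

include hF fix ab cov in
theorem lam_res_zero {g t : Γ} (hg : g ∈ H) (ht : t ∈ K) (h : t ∉ H) : lam F ⊤ V g t = 0 := by
  rw [lam, ← glef_const 0]
  refine congrArg glef (funext fun m => ?_)
  have : IsEmpty (pts F.toMonoidHom (F ^ m).toMonoidHom ⊤ V g t) := ⟨fun x => h (by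
    obtain ⟨a, ha, h1⟩ := cov x x.2.2.1
    have h2 := pow_apply_mem (S := (H : Set Γ)) hF m h1
    rw [map_mul, map_inv, pow_apply_of_fixed (fix a ha), show (F ^ m) x = _ from x.2.2.2, mul_assoc,
      ab _ (inv_mem ht) _ (inv_mem ha), ← mul_assoc, mul_assoc g] at h2
    exact (inv_mem_iff).1 ((H.mul_mem_cancel_left (mul_mem hg h1)).1 h2))⟩
  rw [cntF, cnt, Nat.card_of_isEmpty, Nat.cast_zero]

include hF fix ab norm cov in
theorem ind_res [Finite K] (f : Γ → ℂ) {g : Γ} (hg : g ∈ H) : ind F ⊤ K V f g = ind F H (K ⊓ H) V f g := by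
  classical
  have : Finite ↥(K ⊓ H) := Finite.of_injective _ (Subgroup.inclusion_injective (inf_le_left (b := H)))
  have := Fintype.ofFinite K
  have := Fintype.ofFinite ↥(K ⊓ H)
  have h1 : (Nat.card K : ℂ) ≠ 0 := Nat.cast_ne_zero.2 Nat.card_pos.ne'
  have h2 : (Nat.card ↥(K ⊓ H) : ℂ) ≠ 0 := Nat.cast_ne_zero.2 Nat.card_pos.ne'
  have h3 : ∀ t ∈ K, lam F ⊤ V g t = Nat.card K / Nat.card ↥(K ⊓ H) * lam F H V g t := fun t ht => by
    rw [lam, lam, ← glef_smul (div_ne_zero h1 h2)]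
    refine congrArg glef (funext fun m => ?_)
    rw [div_mul_eq_mul_div, eq_div_iff h2, mul_comm (Nat.card K : ℂ), cntF, cntF, ← Nat.cast_mul, ← Nat.cast_mul,
      cnt_res fix ab norm cov m g ht]
  rw [ind_apply', ind_apply', ← Finset.sum_subset (Finset.filter_subset (fun t : K => (t : Γ) ∈ H) _) fun t _ ht => by
    rw [lam_res_zero hF fix ab cov hg t.2 (by simpa using ht), zero_mul], Finset.mul_sum, Finset.mul_sum]
  refine Finset.sum_bij' (fun t ht => ⟨t, t.2, by simpa using ht⟩) (fun t _ => ⟨t, t.2.1⟩) (fun _ _ => Finset.mem_univ _)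
    (fun t _ => by simpa using t.2.2) (fun _ _ => rfl) (fun _ _ => rfl) fun t _ => ?_
  rw [h3 t t.2]
  field_simp

end Res

end Cfsg.Agent.HZ.L.Reg
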