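import Cfsg.Agent.HZ.L.Reg.Dat
import Cfsg.Agent.HZ.L.Reg.Cnt
import Cfsg.Agent.HZ.L.Bas

/-!
# HZ, the regular embedding: `boxReg` (helper22)
-/

set_option autoImplicit false
set_option linter.unusedSectionVars false

namespace Cfsg.Agent.HZ.L.Reg

open Cfsg Cfsg.Agent.DL Cfsg.Agent.DL.PP Cfsg.Agent.DL.Uni Cfsg.Agent.DL.Asm Cfsg.Agent.Nodes.Reps Matrix
  Cfsg.Agent.KZ.Lie Cfsg.Agent.Tits.Roots Cfsg.Agent.DL.Mk

variable {p : ℕ} [Fact p.Prime] {k : Type} [Field k] [CharP k p] [IsAlgClosed k] {Y : Type} [Group Y] {N : Type}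
  [Fintype N] [DecidableEq N] {ρ : Y →* GL N k} {F : MulAut Y} {G : Subgroup Y} {D : Datum p ρ F G}

theorem iY_fix {a : Y} (ha : a ∈ G) : FF D (iY D a) = iY D a ↔ F a = a := by
  rw [FF_iY D ha]
  exact ⟨iY_inj (D.F_mem_G ha) ha, congrArg _⟩

theorem iY_mem_T {a : Y} (ha : a ∈ G) : iY D a ∈ (DD D).T ↔ a ∈ D.T := by
  refine ⟨fun ⟨c, hc⟩ => ?_, fun h => up_T_le D ((iY_mem_up ha).2 h)⟩
  have h1 : c = Sum.elim (c ∘ Sum.inl) 1 := by
    rw [← nu_iY D a, ← hc, nu_ta, Sum.elim_comp_inl_inr]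
  rw [h1, ta_elim] at hc
  exact iY_inj (D.T_le_G (D.τ_mem _)) ha hc ▸ D.τ_mem _

theorem iY_mem_cj {a y : Y} (ha : a ∈ G) (hy : y ∈ G) {H : Subgroup Y} {H' : Subgroup (YY D)}
    (h : ∀ b ∈ G, iY D b ∈ H' ↔ b ∈ H) : iY D a ∈ cj (iY D y) H' ↔ a ∈ cj y H := by
  rw [mem_cj, mem_cj, ← iY_inv hy, ← iY_mul (inv_mem hy) ha, ← iY_mul (mul_mem (inv_mem hy) ha) hy,
    h _ (mul_mem (mul_mem (inv_mem hy) ha) hy)]

theorem nrm_iY {a : Y} (ha : a ∈ G) (d : ℕ) : nrm F d a ∈ G ∧ nrm (FF D) d (iY D a) = iY D (nrm F d a) := by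
  induction d with
  | zero => exact ⟨one_mem _, (iY_one D).symm⟩
  | succ d ih =>
    rw [nrm_succ, nrm_succ, ih.2, FF_pow_iY D d ha, iY_mul ih.1 (pow_mem_G D d ha)]
    exact ⟨mul_mem ih.1 (pow_mem_G D d ha), rfl⟩

/-- the finite torus maps onto the fixed points of the quotient -/
theorem cover {y : Y} (hy : y ∈ G) {w : D.W} (hw : D.Rp w (y⁻¹ * F y)) {x : YY D} (hx : nu D (x⁻¹ * FF D x) = 1) :
    ∃ a ∈ cj (iY D y) (DD D).T ⊓ GF (FF D) ⊤, x * a⁻¹ ∈ (nu D).ker := by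
  let E := (DD D).conj (y := iY D y) trivial ⟨w, rp_lang hy hw⟩
  obtain ⟨b, hb, h1⟩ : ∃ b ∈ E.T, nu D b = nu D x :=
    ⟨_, τ_mem_cj (D := DD D) (iY D y) (Sum.elim 1 (nu D x)), nu_conj D _ _⟩
  obtain ⟨a, ha, h2⟩ := exists_of_nu D (y := b⁻¹ * FF D b) (by rwa [map_mul, map_inv, nu_FF, h1, ← nu_FF, ← map_inv, ← map_mul])
  obtain ⟨s, hs, rfl⟩ := (D.conj hy ⟨w, hw⟩).lang_T ((iY_mem_cj ha hy fun _ => iY_mem_T).1
    (h2 ▸ mul_mem (inv_mem hb) (E.F_mem_T hb)))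
  have h3 := (D.conj hy ⟨w, hw⟩).T_le_G hs
  rw [iY_mul (inv_mem h3) (D.F_mem_G h3), iY_inv h3, ← FF_iY D h3, eq_inv_mul_iff_mul_eq] at h2
  refine ⟨b * (iY D s)⁻¹, ⟨E.T.mul_mem hb (E.T.inv_mem ((iY_mem_cj h3 hy fun _ => iY_mem_T).2 hs)), trivial,
    DL.mem_fix.2 ?_⟩, ?_⟩
  · rw [map_mul, map_inv, ← h2]
    group
  · rw [MonoidHom.mem_ker, map_mul, map_inv, map_mul, map_inv, nu_iY, h1, inv_one, mul_one, mul_inv_cancel]

theorem RV_iY {y : Y} (hy : y ∈ G) {w : D.W} (hw : D.Rp w (y⁻¹ * F y)) (θ : YY D → ℂ) {g : Y} (hg : g ∈ G) :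
    RV (FF D) ⊤ (cj (iY D y) (DD D).T) (cj (iY D y) (DD D).U) θ (iY D g) =
      RV F G (cj y D.T) (cj y D.U) (fun t => θ (iY D t)) g := by
  let E := (DD D).conj (y := iY D y) trivial ⟨w, rp_lang hy hw⟩
  have := finite_inf_GF (DD D) (cj (iY D y) (DD D).T)
  have h1 : E.U = cj (iY D y) (DD D).U := (DD D).conj_U _ _
  have h2 : ∀ a ∈ G, iY D a ∈ cj (iY D y) (DD D).U ↔ a ∈ cj y D.U := fun a ha =>
    iY_mem_cj ha hy fun b hb => by rw [DD_U, iY_mem_up hb]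
  refine (ind_res (H := (nu D).ker) (K := cj (iY D y) (DD D).T ⊓ GF (FF D) ⊤) (fun a ha => ?_) (fun a ha => ha.2.2)
    (fun a ha b hb => E.T_comm ha.1 hb.1) (fun a ha v hv => ?_) (fun x hx => cover hy hw ?_) θ (nu_iY D g)).trans
      (ind_map (K := cj y D.T ⊓ GF F G) (fun _ h _ h' => iY_mul h h')
      (fun _ => iY_inv) (fun _ h _ h' => iY_inj h h') (fun _ => D.F_mem_G) (fun m _ => FF_pow_iY D m)
      (fun z => ⟨exists_of_nu D, fun ⟨a, _, e⟩ => e ▸ nu_iY D a⟩) h2 (fun _ h => h.2.1) (fun z => ⟨fun h => ?_, ?_⟩) θ hg)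
  · rw [MonoidHom.mem_ker, nu_FF, show nu D a = 1 from ha, map_one]
  · have h3 := E.conj_mem_U_of_T (inv_mem ha.1) (h1.ge hv)
    rwa [inv_inv, h1] at h3
  · obtain ⟨a, -, -, e⟩ := mem_up.1 ((DD_U D).le (mem_cj.1 hx))
    have h3 := nu_conj D (iY D y)⁻¹ (x⁻¹ * FF D x)
    rw [inv_inv, ← e, nu_iY] at h3
    exact h3.symm
  · obtain ⟨a, ha, rfl⟩ := exists_of_nu D h.2
    exact ⟨a, ⟨(iY_mem_cj ha hy fun _ => iY_mem_T).1 h.1.1, ha, (iY_fix ha).1 h.1.2.2⟩, rfl⟩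
  · rintro ⟨a, ha, rfl⟩
    exact ⟨⟨(iY_mem_cj ha.2.1 hy fun _ => iY_mem_T).2 ha.1, trivial, (iY_fix ha.2.1).2 ha.2.2⟩, nu_iY D a⟩

variable (D) in
/-- the embedding of the finite groups -/
noncomputable def io : ↥(GF F G) →* ↥(GF (FF D) ⊤) :=
  MonoidHom.mk' (fun g => ⟨iY D g, trivial, (iY_fix g.2.1).2 g.2.2⟩) fun a b => Subtype.ext (iY_mul a.2.1 b.2.1)

theorem mem_range_io {g : ↥(GF (FF D) ⊤)} (h : nu D g = 1) : g ∈ (io D).range :=
  let ⟨a, ha, e⟩ := exists_of_nu D h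
  ⟨⟨a, ha, (iY_fix ha).1 (e ▸ g.2.2)⟩, Subtype.ext e⟩

/-- the level -/
def fr (f : Fr D) : Fr (DD D) := ⟨f.d, f.e, lvl_DD D f.L, f.ζ, f.hζ⟩

theorem RW_io (f : Fr D) (w : D.W) (c : Lbl (DD D)) (hc : Fx (DD D) w c) (g : ↥(GF F G)) :
    RW (fr f) w c (io D g) = RW f w (pl (Jm D) c) g := by
  have hy := yw_mem D w
  have h0 := yw_rp D w
  generalize yw D w = y at hy h0
  have h1 := rp_lang hy h0
  obtain ⟨θ, -, h2⟩ := exists_theta (fr f).L (fr f).hζ trivial h1 hc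
  have h3 : Lab D f.d f.ζ y (fun t => θ (iY D t)) (pl (Jm D) c) := fun v => by
    have h4 := D.T_le_G (D.τ_mem (coch v f.ζ))
    rw [chr_pl, ← h2]
    show θ _ = θ (nrm (FF D) f.d (iY D y * ta D (coch _ f.ζ) * (iY D y)⁻¹))
    rw [ta_coch, ← iY_conj hy h4, (nrm_iY (mul_mem (mul_mem hy h4) (inv_mem hy)) _).2]
  have hP : Pair D (cj y D.T) (cj y D.U) := ⟨y, hy, rfl, rfl, (D.stable_iff hy).2 ⟨w, h0⟩⟩
  have hP' : Pair (DD D) (cj (iY D y) (DD D).T) (cj (iY D y) (DD D).U) :=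
    ⟨iY D y, trivial, rfl, rfl, ((DD D).stable_iff trivial).2 ⟨w, h1⟩⟩
  rw [← R_eq_RW (fr f) trivial h1 h2, ← R_eq_RW f hy h0 h3, R_eq' hP _ _ g.2, R_eq' hP' _ _ (io D g).2]
  exact RV_iY hy h0 θ g.2.1

theorem WM_Jm (w : D.W) : (DD D).Wm w * (DD D).Mx * Jm D = Jm D * (D.Wm w * D.Mx) := by
  rw [Matrix.mul_assoc, show (DD D).Mx * Jm D = _ from blocks_Jm D _ _, ← Matrix.mul_assoc, Wm_Jm, Matrix.mul_assoc]

theorem fx_pl {w : D.W} {c : Lbl (DD D)} (h : Fx (DD D) w c) : Fx D w (pl (Jm D) c) := fun v => by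
  rw [chr_pl, chr_pl, mulVec_mulVec, ← WM_Jm, ← mulVec_mulVec, h]

theorem pl_elim (c : Lbl D) (c' : D.I → ℂˣ) : pl (Jm D) (Sum.elim c c') = c := funext fun i => by
  rw [← chr_single i (pl _ _), chr_pl, Jm_mulVec, chr_elim, chr_zero, mul_one, chr_single]
  rfl

theorem WM_blocks (w : D.W) : ∃ C, (DD D).Wm w * (DD D).Mx = fromBlocks (D.Wm w * D.Mx) C 0 (Qm D) := by
  have h1 := WM_Jm w
  have h2 : ∀ i, (DD D).Wm w (Sum.inr i) = Pi.single (Sum.inr i) 1 := fun i => chr_inj (k := k) fun c =>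
    (congrFun (inr_Wm D w c) i).trans (chr_single _ c).symm
  have h3 : ((DD D).Wm w * (DD D).Mx).toBlocks₂₂ = Qm D := Matrix.ext fun i j => by
    show ((DD D).Wm w (Sum.inr i) ᵥ* (DD D).Mx) (Sum.inr j) = _
    rw [h2, single_one_vecMul]
    rfl
  generalize (DD D).Wm w * (DD D).Mx = A at h1 h3 ⊢
  rw [← fromBlocks_toBlocks A, Jm, fromBlocks_mul_fromRows, fromRows_mul] at h1
  simp only [Matrix.mul_one, Matrix.mul_zero, add_zero, Matrix.one_mul, Matrix.zero_mul] at h1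
  exact ⟨_, by rw [← (fromRows_inj h1).1, ← (fromRows_inj h1).2, ← h3, fromBlocks_toBlocks]⟩

theorem exists_lift {w : D.W} {c : Lbl D} (h : Fx D w c) : ∃ c', Fx (DD D) w c' ∧ pl (Jm D) c' = c := by
  obtain ⟨C, hC⟩ := WM_blocks w
  have h1 : (1 - Qm D)ᵀ.det ≠ 0 := fun h0 => by
    rw [det_transpose] at h0
    obtain ⟨v, hv, h1⟩ := Matrix.exists_vecMul_eq_zero_iff.2 h0
    rw [vecMul_sub, vecMul_one, vecMul_Qm, sub_eq_zero] at h1
    refine hv (D.wt_injective ((eq_zero_of_vecMul_eq_zero D.det_Mx_sub_one_ne_zero ?_).trans (map_zero _).symm))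
    rw [vecMul_sub, vecMul_one, ← D.wt_ψ, ← h1, sub_self]
  obtain ⟨b, hb⟩ := mon_surj h1 fun i => chr (Cᵀ i) c
  refine ⟨Sum.elim c b, fun v => ?_, pl_elim c b⟩
  have h2 := congrArg (chr (v ∘ Sum.inr)) hb
  rw [chr_mon, chr_rows, vecMul_transpose, vecMul_transpose, sub_mulVec, one_mulVec, chr_sub, mul_inv_eq_iff_eq_mul] at h2
  conv_rhs => rw [← Sum.elim_comp_inl_inr v]
  rw [hC, fromBlocks_mulVec, chr_elim, chr_elim, zero_mulVec, zero_add, chr_add, mul_assoc]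
  exact congrArg₂ (· * ·) (h _) h2.symm

theorem exists_B {j : ℕ} {B : Mat D.R} (h : St D j B) : ∃ Q, St (DD D) j (fromBlocks B 0 0 Q) := by
  choose a h1 h2 using fun i => D.g_surj (isRoot_sr D.cs D.h i)
  have h3 : Qm D = ((p : ℤ) ^ j) • Matrix.of a := Matrix.ext fun i => congrFun (by
    show D.ψ (sr i) = ((p : ℤ) ^ j) • a i
    rw [← h2, D.ψ_g (h1 i), h.ex _ (h1 i)])
  have h4 : Matrix.of a * Am D = Am D * B := smul_right_injective _ h.q_ne (by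
    show ((p : ℤ) ^ j) • _ = ((p : ℤ) ^ j) • _
    rw [← Matrix.smul_mul, ← Matrix.mul_smul, ← h3, ← h.mx, Qm_Am])
  have h5 : ∀ n : ℕ, Matrix.of a ^ n * Am D = Am D * B ^ n := fun n => by
    induction n with
    | zero => rw [pow_zero, pow_zero, Matrix.one_mul, Matrix.mul_one]
    | succ n ih => rw [pow_succ', Matrix.mul_assoc, ih, ← Matrix.mul_assoc, h4, Matrix.mul_assoc, ← pow_succ']
  refine ⟨Matrix.of a, h.pos, ?_, h.qs, h.fin.imp fun n hn => ⟨hn.1, ?_⟩, h.ex⟩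
  · rw [fromBlocks_smul, smul_zero, smul_zero, ← h3, ← h.mx]
  · rw [fromBlocks_diagonal_pow, hn.2, Am_cancel D ((h5 n).trans (by rw [hn.2, Matrix.mul_one, Matrix.one_mul])),
      fromBlocks_one]

variable (D) in
/-- the roots and the root system -/
noncomputable def rtE : {b // D.Rt b} ≃ rts D := Equiv.ofBijective (fun b => ⟨_, rt_mem b.2⟩)
  ⟨fun _ _ e => Subtype.ext (D.wt_injective (congrArg (fun x => x.1.1) e)),
    fun ⟨_, b, h, e⟩ => ⟨⟨b, h⟩, Subtype.ext e.symm⟩⟩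

variable [Fintype ↥(GF F G)]

theorem exists_lin (f : Fr D) (h : D.QS) [Fintype ↥(GF (FF D) ⊤)] (lam : ↥(GF (FF D) ⊤) →* ℂˣ)
    (hl : ∀ g, lam (io D g) = 1) : ∃ cl : Lbl (DD D), (∀ u, Rel (DD D) u cl cl) ∧ (∀ w, Fx (DD D) w cl) ∧
      pl (Jm D) cl = 1 ∧ (cl = 1 → lam = 1) ∧ ∀ w c g, RW (fr f) w (c * cl) g = lam g * RW (fr f) w c g := by
  obtain ⟨cl, h1, h2, h3, h4⟩ := RW_lin' KZ.Mts.boxExLin (fr f) h lam fun u ⟨n, hn⟩ => by
    obtain ⟨g, rfl⟩ := mem_range_io (g := u) (funext fun i => Units.ext ((iterateFrobenius k p n).injective (by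
      rw [iterateFrobenius_def, ← Units.val_pow_eq_pow_val, ← Pi.pow_apply, ← map_pow, ← hn, pow_orderOf_eq_one, map_one,
        Pi.one_apply, Units.val_one, map_one])))
    exact hl g
  refine ⟨cl, h1, h2, ?_, fun e => ?_, h4⟩
  · have h5 : ∀ {E : Datum p (rh D) (FF D) ⊤} (w), Fx E w 1 := fun w v => by rw [map_one, map_one]
    have h6 : RW f 1 (pl (Jm D) cl) = RW f 1 (pl (Jm D) 1) := funext fun g => by
      rw [← RW_io f 1 _ (h2 1), ← RW_io f 1 _ (h5 _), ← one_mul cl, h4, hl, Units.val_one, one_mul]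
    have h7 := RW_ip f (fx_pl (h2 1)) (fx_pl (h5 1))
    rw [h6, RW_ip f (fx_pl (h5 1)) (fx_pl (h5 1)), Nat.cast_inj] at h7
    have : Nonempty {v : D.W // Tc D v 1 1 ∧ Rel D v (pl (Jm D) 1) (pl (Jm D) 1)} := ⟨1, tc_one 1, rel_one D _⟩
    obtain ⟨v, -, hv⟩ := (Nat.card_pos_iff.1 (h7 ▸ Nat.card_pos)).1
    rw [show pl (Jm D) 1 = 1 from funext fun _ => map_one _] at hv
    exact Tl.eq_one hv
  · rw [← pow_one lam, h3, pow_one, e]

variable (D) in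
/-- **the regular embedding** -/
theorem boxReg : BoxReg D := fun j B h f => by
  obtain ⟨Q, hQ⟩ := exists_B h
  have := finite_GF (DD D)
  have := Fintype.ofFinite ↥(GF (FF D) ⊤)
  exact ⟨{
    Y' := YY D, N' := N ⊕ D.I, ρ' := rh D, F' := FF D, G' := ⊤, D' := DD D, f' := fr f, B' := _, st := hQ
    cz := cz_DD D, J := Jm D, hB := blocks_Jm D B Q, ω := MulEquiv.refl _, hω := Wm_Jm D
    e := (rtE D).symm.trans (rtE (DD D))
    e₁ := fun a => by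
      obtain ⟨b, rfl⟩ := (rtE D).surjective a
      rw [Equiv.trans_apply, Equiv.symm_apply_apply]
      exact vecMul_Jm D _ _
    e₂ := fun a => by
      obtain ⟨b, rfl⟩ := (rtE D).surjective a
      rw [Equiv.trans_apply, Equiv.symm_apply_apply]
      exact cor_DD D b.2
    ι := io D
    inj := fun a b e => Subtype.ext (iY_inj a.2.1 b.2.1 (congrArg Subtype.val e))
    comm := fun g hg => mem_range_io (Abelianization.commutator_subset_ker ((nu D).comp (Subgroup.subtype _)) hg)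
    res := RW_io f
    lift := fun _ _ => exists_lift
    lin := exists_lin f h.qs }⟩

theorem allReg : AllD p fun D => BoxReg D := fun D _ => boxReg D

end Cfsg.Agent.HZ.L.Reg
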