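import Cfsg.Agent.HZ.L.Reg.Wt

/-!
# HZ, the regular embedding: the group (helper22)

`YY D = G ⋊ (D.I → kˣ)` with the embedding `iY`, the quotient map `nu`, the torus `ta`, the central torus `zz`, the
Steinberg map `FF` and the representation `rh`.
-/

set_option autoImplicit false
set_option linter.unusedSectionVars false

namespace Cfsg.Agent.HZ.L.Reg

open Cfsg Cfsg.Agent.DL Cfsg.Agent.Nodes.Reps Matrix Cfsg.Agent.Tits.Roots Cfsg.Agent.LangThm Cfsg.Agent.Nodes.BNOf
  SemidirectProduct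

variable {p : ℕ} [Fact p.Prime] {k : Type} [Field k] [CharP k p] [IsAlgClosed k] {Y : Type} [Group Y] {N : Type}
  [Fintype N] [DecidableEq N] {ρ : Y →* GL N k} {F : MulAut Y} {G : Subgroup Y} (D : Datum p ρ F G)

/-- the torus inside `G` -/
def tG : (D.R → kˣ) →* ↥G := D.τ.codRestrict G fun c => D.T_le_G (D.τ_mem c)

/-- the diagonal automorphisms -/
noncomputable def ph : (D.I → kˣ) →* MulAut ↥G :=
  (al D).liftOfSurjective (al_surj D) ⟨MulAut.conj.comp ((tG D).comp invMonoidHom), fun s hs => MulEquiv.ext fun g =>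
    Subtype.ext (mul_inv_eq_iff_eq_mul.2 (central_of_al D (s := s⁻¹) (by rw [map_inv, hs, inv_one]) g g.2).symm)⟩

theorem ph_al (s : D.R → kˣ) (g : ↥G) : ph D (al D s) g = (tG D s)⁻¹ * g * tG D s := by
  rw [ph, MonoidHom.liftOfRightInverse_comp_apply]
  show tG D s⁻¹ * g * (tG D s⁻¹)⁻¹ = _
  rw [map_inv, inv_inv]

theorem ph_tG (c : D.I → kˣ) (t : D.R → kˣ) : ph D c (tG D t) = tG D t := by
  obtain ⟨s, rfl⟩ := al_surj D c
  rw [ph_al, ← map_inv, ← map_mul, ← map_mul, inv_mul_cancel_comm]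

/-- the larger group -/
abbrev YY : Type := ↥G ⋊[ph D] (D.I → kˣ)

open Classical in
/-- the embedding of `G` -/
noncomputable def iY (y : Y) : YY D := if h : y ∈ G then inl ⟨y, h⟩ else 1

theorem iY_coe (g : ↥G) : iY D g = inl g := dif_pos g.2

variable {D}

theorem iY_of {y : Y} (h : y ∈ G) : iY D y = inl ⟨y, h⟩ := dif_pos h

theorem iY_mul {a b : Y} (ha : a ∈ G) (hb : b ∈ G) : iY D (a * b) = iY D a * iY D b := by
  rw [iY_of ha, iY_of hb, iY_of (mul_mem ha hb), ← map_mul]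
  rfl

theorem iY_inv {a : Y} (ha : a ∈ G) : iY D a⁻¹ = (iY D a)⁻¹ := by
  rw [iY_of ha, iY_of (inv_mem ha), ← map_inv]
  rfl

theorem iY_conj {a b : Y} (ha : a ∈ G) (hb : b ∈ G) : iY D (a * b * a⁻¹) = iY D a * iY D b * (iY D a)⁻¹ := by
  rw [iY_mul (mul_mem ha hb) (inv_mem ha), iY_mul ha hb, iY_inv ha]

theorem iY_inj {a b : Y} (ha : a ∈ G) (hb : b ∈ G) (h : iY D a = iY D b) : a = b := by
  rw [iY_of ha, iY_of hb] at h
  exact congrArg Subtype.val (inl_injective h)

variable (D)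

theorem iY_one : iY D 1 = 1 := (iY_coe D 1).trans (map_one _)

/-- the quotient map -/
noncomputable def nu : YY D →* (D.I → kˣ) := rightHom

theorem nu_iY (y : Y) : nu D (iY D y) = 1 := by
  unfold iY
  split_ifs
  · rfl
  · exact map_one _

theorem exists_of_nu {y : YY D} (h : nu D y = 1) : ∃ g ∈ G, iY D g = y :=
  ⟨y.left, y.left.2, (iY_coe D _).trans (SemidirectProduct.ext rfl (Eq.symm h))⟩

/-- the larger torus -/
noncomputable def ta : (D.R ⊕ D.I → kˣ) →* YY D := MonoidHom.mk' (fun c => ⟨tG D (c ∘ Sum.inl), c ∘ Sum.inr⟩) fun a b =>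
  SemidirectProduct.ext (by rw [mul_left, ph_tG, ← map_mul]; rfl) rfl

theorem nu_ta (c : D.R ⊕ D.I → kˣ) : nu D (ta D c) = c ∘ Sum.inr := rfl

theorem ta_inj : Function.Injective (ta D) := fun a b h => funext fun i => by
  rcases i with i | i
  · exact congrFun (D.τ_inj (congrArg (fun y : YY D => (y.left : Y)) h)) i
  · exact congrFun (congrArg (nu D) h) i

theorem ta_elim (t : D.R → kˣ) : ta D (Sum.elim t 1) = iY D (D.τ t) := (iY_coe D (tG D t)).symm

/-- the central torus -/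
noncomputable def zz (s : D.R → kˣ) : YY D := ta D (Sum.elim s (al D s))

theorem ta_eq {c : D.R ⊕ D.I → kˣ} {s : D.R → kˣ} (h : al D s = c ∘ Sum.inr) :
    ta D c = iY D (D.τ (c ∘ Sum.inl * s⁻¹)) * zz D s := by
  rw [← ta_elim, zz, ← map_mul]
  congr 1
  funext i
  rcases i with i | i
  · exact (inv_mul_cancel_right _ _).symm
  · exact (congrFun h i).symm.trans (one_mul _).symm

theorem exists_iY_ta (y : YY D) : ∃ g ∈ G, ∃ c, y = iY D g * ta D c :=
  ⟨y.left, y.left.2, Sum.elim 1 y.right, by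
    rw [iY_coe]
    exact SemidirectProduct.ext (by
      show _ = y.left * ph D 1 (tG D 1)
      rw [ph_tG, map_one, mul_one]) (one_mul _).symm⟩

theorem zz_comm (s : D.R → kˣ) (y : YY D) : Commute (zz D s) y := by
  obtain ⟨g, hg, c, rfl⟩ := exists_iY_ta D y
  refine Commute.mul_right ?_ ((Commute.all _ _).map (ta D))
  rw [iY_of hg]
  refine SemidirectProduct.ext ?_ (mul_comm _ _)
  show tG D s * ph D (al D s) _ = _ * ph D 1 (tG D s)
  rw [ph_al, ph_tG, mul_assoc, mul_inv_cancel_left]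

theorem ta_conj {c : D.R ⊕ D.I → kˣ} {s : D.R → kˣ} (h : al D s = c ∘ Sum.inr) {g : Y} (hg : g ∈ G) :
    ta D c * iY D g * (ta D c)⁻¹ = iY D (D.τ (c ∘ Sum.inl * s⁻¹) * g * (D.τ (c ∘ Sum.inl * s⁻¹))⁻¹) := by
  rw [iY_conj (D.T_le_G (D.τ_mem _)) hg, ta_eq D h, mul_assoc _ (zz D s), (zz_comm D s _).eq]
  group

theorem conj_ta {c : D.R ⊕ D.I → kˣ} {s : D.R → kˣ} (h : al D s = c ∘ Sum.inr) {g : Y} (hg : g ∈ G) :
    iY D g * ta D c * (iY D g)⁻¹ = iY D (g * D.τ (c ∘ Sum.inl * s⁻¹) * g⁻¹) * zz D s := by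
  rw [iY_conj hg (D.T_le_G (D.τ_mem _)), ta_eq D h, mul_assoc _ (iY D g)⁻¹, ← (zz_comm D s (iY D g)⁻¹).eq]
  group

/-! ### the Steinberg map -/

/-- `F` on `G` -/
def FG : MulAut ↥G := (F.subgroupMap G).trans (MulEquiv.subgroupCongr D.map_G)

theorem coe_FG (g : ↥G) : (FG D g : Y) = F g := rfl

theorem FG_tG (s : D.R → kˣ) : FG D (tG D s) = tG D (mon D.Mx s) := Subtype.ext (D.F_τ s)

/-- the Steinberg map of the larger group -/
noncomputable def FF : MulAut (YY D) :=
  SemidirectProduct.congr (FG D) (MulEquiv.ofBijective (mon (Qm D)) (Qm_bij D)) fun c => MulEquiv.ext fun g => by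
    obtain ⟨s, rfl⟩ := al_surj D c
    show FG D (ph D (al D s) g) = ph D (mon (Qm D) (al D s)) (FG D g)
    rw [← al_mon, ph_al, ph_al, map_mul, map_mul, map_inv, FG_tG]

theorem FF_iY {g : Y} (hg : g ∈ G) : FF D (iY D g) = iY D (F g) := by
  rw [iY_of hg, iY_of (D.F_mem_G hg)]
  exact SemidirectProduct.ext rfl (map_one (mon (Qm D)))

theorem nu_FF (y : YY D) : nu D (FF D y) = mon (Qm D) (nu D y) := rfl

theorem mon_blocks {R R' : Type} [Fintype R] [Fintype R'] (A : Matrix R R ℤ) (B : Matrix R' R' ℤ) (c : R ⊕ R' → kˣ) :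
    mon (fromBlocks A 0 0 B) c = Sum.elim (mon A (c ∘ Sum.inl)) (mon B (c ∘ Sum.inr)) := funext fun i => by
  rcases i with i | i
  · exact (chr_elim (A i) 0 c).trans (by rw [chr_zero, mul_one]; rfl)
  · exact (chr_elim 0 (B i) c).trans (by rw [chr_zero, one_mul]; rfl)

theorem FF_ta (c : D.R ⊕ D.I → kˣ) : FF D (ta D c) = ta D (mon (fromBlocks D.Mx 0 0 (Qm D)) c) := by
  rw [mon_blocks]
  exact SemidirectProduct.ext (FG_tG D _) rfl

include D in
theorem pow_mem_G (m : ℕ) {g : Y} (hg : g ∈ G) : (F ^ m) g ∈ G :=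
  pow_mem_of_maps (H := (G : Set Y)) (fun _ => D.F_mem_G) m hg

theorem FF_pow_iY (m : ℕ) {g : Y} (hg : g ∈ G) : (FF D ^ m) (iY D g) = iY D ((F ^ m) g) := by
  induction m with
  | zero => rfl
  | succ m ih => rw [pow_succ', pow_succ', MulAut.mul_apply, MulAut.mul_apply, ih, FF_iY D (pow_mem_G D m hg)]

theorem FF_pow_inr (m : ℕ) (c : D.I → kˣ) : (FF D ^ m) (inr c) = inr ((mon (Qm D))^[m] c) := by
  induction m with
  | zero => rfl
  | succ m ih =>
    rw [pow_succ', MulAut.mul_apply, ih, Function.iterate_succ_apply']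
    exact SemidirectProduct.ext (map_one (FG D)) rfl

/-! ### the representation -/

/-- a basis of weight vectors -/
noncomputable def g0 : GL N k := (exists_del D).choose

/-- the weights -/
noncomputable def mu : N → D.R → ℤ := (exists_del D).choose_spec.choose

/-- the weights of the complement -/
noncomputable def mm : N → D.I → ℤ := (exists_del D).choose_spec.choose_spec.choose

theorem rho_tau (c : D.R → kˣ) : ρ (D.τ c) = g0 D * dg (fun i => chr (mu D i) c) * (g0 D)⁻¹ :=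
  (exists_del D).choose_spec.choose_spec.choose_spec.1 c

/-- the action of the complement -/
noncomputable def del : (D.I → kˣ) →* GL N k :=
  (MulAut.conj (g0 D)).toMonoidHom.comp (dg.comp (MonoidHom.pi fun i => chr (mm D i)))

theorem del_apply (c : D.I → kˣ) : del D c = g0 D * dg (fun i => chr (mm D i) c) * (g0 D)⁻¹ := rfl

theorem del_comm (s : D.R → kˣ) {g : Y} (hg : g ∈ G) : Commute (del D (al D s) * ρ (D.τ s)) (ρ g) :=
  (exists_del D).choose_spec.choose_spec.choose_spec.2 s g hg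

/-- the representation of the larger group -/
noncomputable def rh : YY D →* GL (N ⊕ D.I) k :=
  SemidirectProduct.lift (bl.comp ((MonoidHom.inl _ _).comp (ρ.comp G.subtype))) (bl.comp ((del D).prod dg)) fun c =>
    MonoidHom.ext fun g => by
      obtain ⟨s, rfl⟩ := al_surj D c
      show bl (ρ (ph D (al D s) g : ↥G), 1) =
        bl (del D (al D s), dg (al D s)) * bl (ρ g, 1) * (bl (del D (al D s), dg (al D s)))⁻¹
      rw [← map_inv, ← map_mul, ← map_mul, ph_al]
      refine congrArg bl (Prod.ext ?_ (by simp))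
      have h := (del_comm D s ((tG D s)⁻¹ * g * tG D s).2).eq
      show ρ ((D.τ s)⁻¹ * g * D.τ s) = del D (al D s) * ρ g * (del D (al D s))⁻¹
      replace h : del D (al D s) * ρ (D.τ s) * ρ ((D.τ s)⁻¹ * g * D.τ s) =
        ρ ((D.τ s)⁻¹ * g * D.τ s) * (del D (al D s) * ρ (D.τ s)) := h
      rw [eq_mul_inv_iff_mul_eq, ← mul_left_inj (ρ (D.τ s)), mul_assoc, ← h, map_mul, map_mul, map_inv]
      group

theorem rh_apply (y : YY D) : rh D y = bl (ρ y.left * del D y.right, dg y.right) := by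
  show bl (ρ y.left, 1) * bl (del D y.right, dg y.right) = _
  rw [← map_mul, Prod.mk_mul_mk, one_mul]

theorem rh_iY {g : Y} (hg : g ∈ G) : rh D (iY D g) = bl (ρ g, 1) := by
  rw [iY_of hg, rh, lift_inl]
  rfl

theorem rh_inr (c : D.I → kˣ) : rh D (inr c) = bl (del D c, dg c) := by
  rw [rh, lift_inr]
  rfl

theorem rh_inj : Function.Injective (rh D) := (injective_iff_map_eq_one _).2 fun y h => by
  rw [rh_apply, ← map_one bl] at h
  have h1 := Prod.ext_iff.1 (bl_inj h)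
  have h2 : y.right = 1 := dg_inj h1.2
  have h3 : ρ y.left * del D y.right = 1 := h1.1
  rw [h2, map_one, mul_one, ← map_one ρ] at h3
  exact SemidirectProduct.ext (Subtype.ext (D.amb.inj h3)) h2

theorem rh_ta (c : D.R ⊕ D.I → kˣ) : rh D (ta D c) = bl (g0 D, 1) * dg (fun i => chr (Sum.elim
    (fun i => Sum.elim (mu D i) (mm D i)) (fun i => Pi.single (Sum.inr i) 1) i) c) * (bl (g0 D, 1))⁻¹ := by
  have h : (fun i => chr (Sum.elim (fun i => Sum.elim (mu D i) (mm D i)) (fun i => Pi.single (Sum.inr i) 1) i) c) =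
      Sum.elim (fun i => chr (mu D i) (c ∘ Sum.inl)) (c ∘ Sum.inr) * Sum.elim (fun i => chr (mm D i) (c ∘ Sum.inr)) 1 :=
    funext fun i => by
      rcases i with i | i
      · exact chr_elim _ _ _
      · exact (chr_single _ _).trans (mul_one _).symm
  rw [h, map_mul, ← bl_dg, ← bl_dg, ← map_inv, ← map_mul, ← map_mul, ← map_mul, rh_apply]
  refine congrArg bl (Prod.ext ?_ (by simp [show (ta D c).right = c ∘ Sum.inr from rfl]))
  show ρ (D.τ (c ∘ Sum.inl)) * del D (c ∘ Sum.inr) = g0 D * (_ * _) * (g0 D)⁻¹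
  rw [rho_tau, del_apply]
  group

theorem amb : Amb p (rh D) (FF D) := ⟨D.amb.lf, rh_inj D, by
  obtain ⟨d, e, H⟩ := D.exists_split'
  obtain ⟨m, hm, h⟩ := exists_level_GL D.amb.lf fun _ : Unit => g0 D
  have H' := H.mul hm
  have h1 := frob_of_dvd (h ()) (dvd_mul_left m e)
  refine ⟨_, _, H'.d_pos, H'.e_pos, fun y => ?_⟩
  rw [← inl_left_mul_inr_right y, map_mul, map_mul, map_mul, map_mul, ← iY_coe, FF_pow_iY D _ y.left.2, FF_pow_inr,
    Qm_iter D (D.Mx_pow H'), rh_iY D y.left.2, rh_iY D (pow_mem_G D _ y.left.2), rh_inr, rh_inr,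
    frob_bl, frob_bl, H'.frob, map_one, frob_dg, del_apply, del_apply, map_mul (frob p _), map_mul (frob p _),
    map_inv, h1, frob_dg]
  congr 6
  funext i
  rw [map_pow, Pi.pow_apply]⟩

theorem iY_mem_lev {g : Y} (hg : g ∈ G) {e : ℕ} : iY D g ∈ DL.lev p (rh D) e ↔ g ∈ DL.lev p ρ e := by
  rw [mem_lev, mem_lev, rh_iY D hg, frob_bl, map_one, bl_inj.eq_iff, Prod.mk_left_inj]

end Cfsg.Agent.HZ.L.Reg
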